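import Cfsg.Agent.H704.S8.Defs_m3
import Mathlib
import Cfsg.Agent.H34.PerfThree
import Cfsg.Agent.H109.S8.AutDeg
import Cfsg.Agent.S0886
import Cfsg.Agent.H417.DegMTwelve
import Cfsg.Agent.S0421
import Cfsg.Agent.S2061
import Cfsg.Agent.CoThreeStd.M12.Model
import Cfsg.Agent.Prune
set_option linter.all false

section
prune_inst 0x7f00000000000000000000000000000000000000000000000000000000000000000000000000000000000000000000000000000000000000000000000000000000000000000000000000000000000000003fffffffffffffffffffffffffffbeffbdffffffff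

-- part: H704/S8/Defs3
section
set_option linter.all false

-- part: H704/S8/Defs2
section
/-!
# S4908: weaker forms of the COVER and OUT rows (helper704; forms proposed by helper882 and helper619)
-/

set_option autoImplicit false

namespace Cfsg.Agent.H704.S8

open Cfsg

universe u v

/-- COVER, weak form (helper882): the character may depend on `i` -/
def Cover' (D : Set ℕ) (X : Type v) [Group X] : Prop :=
  ∀ {N : Type u} [Group N] [Finite N] (V : Subgroup N) [V.Normal] (r : ℕ), r.Prime → Nat.card V = r →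
    V ≤ Subgroup.center N → commutator N = ⊤ → Nonempty ((N ⧸ V) ≃* X) → ∀ i : ℕ,
    ∃ (χ : N → ℂ) (d : ℕ), IsIrrCharacter N χ ∧ (∃ v ∈ V, χ v ≠ χ 1) ∧ χ 1 = d ∧
      d * r ^ i ∉ D ∧ 2 * (d * r ^ i) ∉ D

theorem Cover.weak {D : Set ℕ} {X : Type v} [Group X] (h : Cover.{u} D X) : Cover'.{u} D X := by
  intro N _ _ V _ r hr hV hc hp e i
  obtain ⟨χ, d, h1, h2, h3, h4⟩ := h V r hr hV hc hp e
  exact ⟨χ, d, h1, h2, h3, (h4 i).1, (h4 i).2⟩

/-- a degree of `X` which is not a degree of `Aut X` and is not twice a degree of `X` (helper619) -/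
def OutB (X : Type v) [Group X] : Prop :=
  ∃ d ∈ charDegrees X, d ∉ charDegrees (MulAut X) ∧ ∀ e ∈ charDegrees X, 2 * e ≠ d

/-- OUT, weak form -/
def OutRow' (c : ℕ) (X : Type v) [Group X] : Prop :=
  (MulAut.conj : X →* MulAut X).range.index ≤ c ∧
    (c = 2 → OutB X ∨ (¬ charDegrees X ⊆ charDegrees (MulAut X) ∧ ¬ charDegrees (MulAut X) ⊆ charDegrees X))

theorem OutRow.weak {c : ℕ} {X : Type v} [Group X] (h : OutRow c X) : OutRow' c X :=
  ⟨h.1, fun hc => Or.inr (h.2 hc)⟩

/-- everything about one sporadic group, weak form: this is what the assembly uses -/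
structure Row' (c : ℕ) (X : Type v) [Group X] : Prop where
  out : OutRow' c X
  solv : ∀ D : Set ℕ, Deg c X D → Solv.{u} D
  soc1 : ∀ D : Set ℕ, Deg c X D → Soc1.{u} D X
  soc2 : ∀ D : Set ℕ, Deg c X D → Soc2.{u} D
  chief : ∀ D : Set ℕ, Deg c X D → Chief.{u} c D X
  cover : ∀ D : Set ℕ, Deg c X D → Cover'.{u} D X
  mult : ∀ {N : Type u} [Group N] [Finite N] (V : Subgroup N) [V.Normal], V ≤ Subgroup.center N → commutator N = ⊤ →
    Nonempty ((N ⧸ V) ≃* X) → IsCyclic V

theorem Row.weak {c : ℕ} {X : Type v} [Group X] (R : Row.{u} c X) : Row'.{u} c X where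
  out := R.out.weak
  solv := R.solv
  soc1 := R.soc1
  soc2 := R.soc2
  chief := R.chief
  cover := fun D hD => Cover.weak (D := D) (X := X) (fun V _ r a b c d e => R.cover D hD V r a b c d e)
  mult := fun V _ a b c => R.mult V a b c

end Cfsg.Agent.H704.S8
end

-- part: H704/S8/Defs3
section
/-!
# S4908: the FINAL (weakest) forms of the COVER and OUT rows, used by the assembly (helper704)

`OutRow3` (helper559): one noncontainment is enough. `Cover3` (helper882, helper676): the character may depend on `i`,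
`i` is bounded, and the factor `2` is not needed if the degrees of `Aut X` are not in `D`.
-/

set_option autoImplicit false

namespace Cfsg.Agent.H704.S8

open Cfsg

universe u v

/-- COVER, final form -/
def Cover3 (c : ℕ) (D : Set ℕ) (X : Type v) [Group X] : Prop :=
  ∀ {N : Type u} [Group N] [Finite N] (V : Subgroup N) [V.Normal] (r : ℕ), r.Prime → Nat.card V = r →
    V ≤ Subgroup.center N → commutator N = ⊤ → Nonempty ((N ⧸ V) ≃* X) →
    ∀ i : ℕ, r ^ (2 * i) < c * Nat.card (ConjClasses X) →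
    ∃ (χ : N → ℂ) (d : ℕ), IsIrrCharacter N χ ∧ (∃ v ∈ V, χ v ≠ χ 1) ∧ χ 1 = d ∧
      d * r ^ i ∉ D ∧ (2 * (d * r ^ i) ∉ D ∨ ¬ charDegrees (MulAut X) ⊆ D)

theorem Cover'.final {c : ℕ} {D : Set ℕ} {X : Type v} [Group X] (h : Cover'.{u} D X) : Cover3.{u} c D X := by
  intro N _ _ V _ r hr hV hc hp e i _
  obtain ⟨χ, d, h1, h2, h3, h4, h5⟩ := h V r hr hV hc hp e i
  exact ⟨χ, d, h1, h2, h3, h4, Or.inl h5⟩

theorem Cover.final {c : ℕ} {D : Set ℕ} {X : Type v} [Group X] (h : Cover.{u} D X) : Cover3.{u} c D X :=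
  Cover'.final (Cover.weak (D := D) (X := X) (fun V _ r a b c d e => h V r a b c d e))

/-- OUT, final form -/
def OutRow3 (c : ℕ) (X : Type v) [Group X] : Prop :=
  (MulAut.conj : X →* MulAut X).range.index ≤ c ∧ (c = 2 → charDegrees X ≠ charDegrees (MulAut X))

theorem OutRow'.final {c : ℕ} {X : Type v} [Group X] (h : OutRow' c X) : OutRow3 c X := by
  refine ⟨h.1, fun hc he => ?_⟩
  rcases h.2 hc with ⟨d, h1, h2, -⟩ | ⟨h1, -⟩
  · exact h2 (he ▸ h1)
  · exact h1 he.le

theorem OutRow.final {c : ℕ} {X : Type v} [Group X] (h : OutRow c X) : OutRow3 c X := h.weak.final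

/-- everything about one sporadic group, FINAL form: this is what the assembly uses -/
structure Row3 (c : ℕ) (X : Type v) [Group X] : Prop where
  out : OutRow3 c X
  solv : ∀ D : Set ℕ, Deg c X D → Solv.{u} D
  soc1 : ∀ D : Set ℕ, Deg c X D → Soc1.{u} D X
  soc2 : ∀ D : Set ℕ, Deg c X D → Soc2.{u} D
  chief : ∀ D : Set ℕ, Deg c X D → Chief.{u} c D X
  cover : ∀ D : Set ℕ, Deg c X D → Cover3.{u} c D X
  mult : ∀ {N : Type u} [Group N] [Finite N] (V : Subgroup N) [V.Normal], V ≤ Subgroup.center N → commutator N = ⊤ →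
    Nonempty ((N ⧸ V) ≃* X) → IsCyclic V

end Cfsg.Agent.H704.S8
end
end

-- part: H497/S8/SolvEng
section
set_option linter.all false
open scoped Cfsg.Agent.FastGrp

/-!
# S4908, SOLV: numerical engine (Isaacs 12.3 and 12.4) (helper497)

`solv_of_chk` : if `D` is contained in the list `Adm`, contains the list `K`, and the boolean check `chk P B Adm K` holds
(`P` = primes, `B` = a bound for the members of `Adm`), then no solvable group has the degree set `D`.
-/

set_option autoImplicit false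

namespace Cfsg.Agent.H497.S8

open Cfsg Cfsg.Agent.H681 Cfsg.Agent.H681.DegBasic Cfsg.Agent.H34.Perf3 Cfsg.Agent.Characters.Core

universe u

/-- The dichotomy in numerical form. -/
theorem dich {G : Type*} [Group G] [Finite G] (hG : ⁅commutator G, commutator G⁆ ≠ commutator G) :
    ∃ p f : ℕ, p.Prime ∧ 1 < f ∧ f ∈ charDegrees G ∧
      (((∃ b, f = p ^ b) ∧ ∀ n ∈ charDegrees G, p ∣ n ∨ f * n ∈ charDegrees G) ∨
        (f.Coprime p ∧ ∃ m : ℕ, 0 < m ∧ f < p ^ m ∧ ∀ n ∈ charDegrees G, p ^ m ∣ n ^ 2 ∨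
          ∃ d ∈ charDegrees G, f ∣ d ∧ n ∣ d ∧ d ∣ f * n)) := by
  classical
  have := Fintype.ofFinite G
  obtain ⟨p, f, hp, hf, h⟩ := cases_of_not_perfect hG
  rcases h with ⟨h1, h2⟩ | ⟨h1, N, hN, hNf, m, hm, hfm, hc⟩
  · refine ⟨p, f, hp, hf, ?_, Or.inl ⟨h1, h2⟩⟩
    rcases h2 1 one_mem with h | h
    · exact absurd (Nat.dvd_one.1 h) hp.ne_one
    · rwa [mul_one] at h
  · have := Fintype.ofFinite N
    have key : ∀ n ∈ charDegrees G, p ^ m ∣ n ^ 2 ∨ ∃ d ∈ charDegrees G, f ∣ d ∧ n ∣ d ∧ d ∣ f * n := by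
      intro n hn
      obtain ⟨χ, hχ, hχn⟩ := mem_charDegrees.1 hn
      obtain ⟨ψ, d, hψ, hψd, -, hd1, hd2⟩ := exists_constituent N hχ hχn
      rw [hNf] at hd2
      rcases hc ψ hψ d hψd with h | h
      · exact Or.inl (h.trans (pow_dvd_pow_of_dvd hd1 2))
      · refine Or.inr ⟨f * d, h, Dvd.intro _ rfl, ?_, Nat.mul_dvd_mul_left f hd1⟩
        have := Nat.mul_dvd_mul_right hd2 d
        rwa [Nat.div_mul_cancel hd1] at this
    refine ⟨p, f, hp, hf, ?_, Or.inr ⟨h1, m, hm, hfm, key⟩⟩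
    rcases key 1 one_mem with h | ⟨d, hd, h2, -, h3⟩
    · rw [one_pow] at h
      have := Nat.le_of_dvd one_pos h
      omega
    · rw [mul_one] at h3
      rwa [← Nat.dvd_antisymm h3 h2] at *

/-- is there a member `d` of `Adm` with `lcm f n ∣ d ∣ f n`? -/
def ext (B : ℕ) (Adm : List ℕ) (f n : ℕ) : Bool :=
  if B < Nat.lcm f n then false
  else Adm.any (fun d => d % f == 0 && (d % n == 0 && (f * n) % d == 0))

/-- the Frobenius case is impossible for `f` -/
def frobOK (B : ℕ) (P Adm K : List ℕ) (f : ℕ) : Bool :=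
  K.any (fun n => !ext B Adm f n) &&
    P.all (fun p => f % p == 0 || K.any (fun n => !ext B Adm f n && Nat.ble (Nat.gcd (n ^ 2) (p ^ 256)) f))

/-- the prime power case is impossible for `f` -/
def ppOK (B : ℕ) (P Adm K : List ℕ) (f : ℕ) : Bool :=
  P.all (fun p => !((p ^ 128) % f == 0) ||
    K.any (fun n => !(n % p == 0) && (Nat.blt B (f * n) || !(Adm.any (fun d => d == f * n)))))

/-- the whole check -/
def chk (B : ℕ) (P Adm K : List ℕ) : Bool :=
  Adm.all (fun f => Nat.ble f B && (Nat.ble f 1 || (frobOK B P Adm K f && ppOK B P Adm K f))) &&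
    (K.any (fun n => Nat.blt 1 n) &&
      (Adm ++ K).all (fun d => Nat.blt 0 d && (Nat.blt d (2 ^ 128) && (P.prod ^ 128) % d == 0)))

theorem ext_of {B : ℕ} {Adm : List ℕ} (hB : ∀ d ∈ Adm, d ≤ B) {f n d : ℕ} (hd : d ∈ Adm) (hd0 : 0 < d) (h1 : f ∣ d)
    (h2 : n ∣ d) (h3 : d ∣ f * n) : ext B Adm f n = true := by
  unfold ext
  have h4 : Nat.lcm f n ≤ B := (Nat.le_of_dvd hd0 (Nat.lcm_dvd h1 h2)).trans (hB d hd)
  rw [if_neg (by omega), List.any_eq_true]
  refine ⟨d, hd, ?_⟩
  simp only [Bool.and_eq_true, beq_iff_eq]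
  exact ⟨Nat.mod_eq_zero_of_dvd h1, Nat.mod_eq_zero_of_dvd h2, Nat.mod_eq_zero_of_dvd h3⟩

theorem dvd_pow_big {p a E f : ℕ} (h1 : f = p ^ a) (h2 : f < 2 ^ E) (hp : 2 ≤ p) : p ^ E % f = 0 := by
  subst h1
  apply Nat.mod_eq_zero_of_dvd
  apply pow_dvd_pow
  have h3 : 2 ^ a < 2 ^ E := (Nat.pow_le_pow_left hp a).trans_lt h2
  exact ((Nat.pow_lt_pow_iff_right (by norm_num)).1 h3).le

/-- **The engine**: the derived subgroup is perfect. -/
theorem perf_of_chk {G : Type*} [Group G] [Finite G] (B : ℕ) (P Adm K : List ℕ) (hP : ∀ p ∈ P, p.Prime)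
    (hAdm : ∀ d ∈ charDegrees G, d ∈ Adm) (hK : ∀ n ∈ K, n ∈ charDegrees G) (hchk : chk B P Adm K = true) :
    ⁅commutator G, commutator G⁆ = commutator G := by
  classical
  by_contra hcon
  obtain ⟨p, f, hp, hf, hfD, h⟩ := dich hcon
  unfold chk at hchk
  rw [Bool.and_eq_true, Bool.and_eq_true] at hchk
  obtain ⟨hA, -, hS⟩ := hchk
  rw [List.all_eq_true] at hA hS
  have hB : ∀ d ∈ Adm, d ≤ B := by
    intro d hd
    have := hA d hd
    rw [Bool.and_eq_true] at this
    exact Nat.le_of_ble_eq_true this.1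
  have hS' : ∀ d ∈ Adm ++ K, 0 < d ∧ d < 2 ^ 128 ∧ d ∣ P.prod ^ 128 := by
    intro d hd
    have := hS d hd
    rw [Bool.and_eq_true, Bool.and_eq_true] at this
    obtain ⟨h1, h2, h3⟩ := this
    refine ⟨?_, ?_, Nat.dvd_of_mod_eq_zero (by simpa using h3)⟩
    · exact Nat.le_of_ble_eq_true h1
    · exact Nat.le_of_ble_eq_true h2
  have hPmem : ∀ q : ℕ, q.Prime → ∀ d ∈ Adm ++ K, q ∣ d → q ∈ P := by
    intro q hq d hd hqd
    have h1 : q ∣ P.prod := hq.dvd_of_dvd_pow (hqd.trans (hS' d hd).2.2)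
    obtain ⟨a, ha, hqa⟩ := (hq.prime.dvd_prod_iff).1 h1
    rwa [(Nat.prime_dvd_prime_iff_eq hq (hP a ha)).1 hqa]
  have hfA := hAdm f hfD
  have hf' := hA f hfA
  rw [Bool.and_eq_true, Bool.or_eq_true, Bool.and_eq_true] at hf'
  obtain ⟨-, hf'⟩ := hf'
  have hf'' : frobOK B P Adm K f = true ∧ ppOK B P Adm K f = true := by
    rcases hf' with h1 | h1
    · have := Nat.le_of_ble_eq_true h1
      omega
    · exact h1
  obtain ⟨hfr, hpp⟩ := hf''
  have hbig := hS' f (List.mem_append_left _ hfA)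
  rcases h with ⟨⟨b, hb⟩, h⟩ | ⟨hcop, m, hm, hfm, h⟩
  · -- the prime power case
    have hpf : p ∣ f := by
      rw [hb]
      apply dvd_pow_self
      rintro rfl
      rw [pow_zero] at hb
      omega
    have hpP : p ∈ P := hPmem p hp f (List.mem_append_left _ hfA) hpf
    unfold ppOK at hpp
    rw [List.all_eq_true] at hpp
    have h1 := hpp p hpP
    rw [dvd_pow_big hb hbig.2.1 hp.two_le, Bool.or_eq_true, List.any_eq_true] at h1
    rcases h1 with h1 | ⟨n, hn, h1⟩
    · simp at h1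
    · rw [Bool.and_eq_true] at h1
      obtain ⟨h2, h3⟩ := h1
      rcases h n (hK n hn) with h4 | h4
      · have h5 := Nat.mod_eq_zero_of_dvd h4
        rw [h5] at h2
        simp at h2
      · have h5 := hAdm _ h4
        rw [Bool.or_eq_true] at h3
        rcases h3 with h3 | h3
        · have h6 := Nat.le_of_ble_eq_true h3
          have h7 := hB _ h5
          omega
        · rw [Bool.not_eq_true', List.any_eq_false] at h3
          exact h3 _ h5 (by simp)
  · -- the Frobenius case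
    unfold frobOK at hfr
    rw [Bool.and_eq_true, List.any_eq_true, List.all_eq_true] at hfr
    obtain ⟨⟨n₀, hn₀, hext₀⟩, hfr⟩ := hfr
    have hdv : ∀ n ∈ K, (!ext B Adm f n) = true → p ^ m ∣ n ^ 2 := by
      intro n hn hext
      rcases h n (hK n hn) with h1 | ⟨d, hd, h1, h2, h3⟩
      · exact h1
      · have hdA := hAdm d hd
        have h4 := ext_of hB hdA (hS' d (List.mem_append_left _ hdA)).1 h1 h2 h3
        rw [h4] at hext
        simp at hext
    have hpn : p ∣ n₀ := hp.dvd_of_dvd_pow ((dvd_pow_self p hm.ne').trans (hdv n₀ hn₀ hext₀))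
    have hpP : p ∈ P := hPmem p hp n₀ (List.mem_append_right _ hn₀) hpn
    have h1 := hfr p hpP
    rw [Bool.or_eq_true, List.any_eq_true] at h1
    rcases h1 with h1 | ⟨n, hn, h1⟩
    · have h2 : p ∣ f := Nat.dvd_of_mod_eq_zero (by simpa using h1)
      exact hp.one_lt.ne' (Nat.eq_one_of_dvd_coprimes hcop h2 dvd_rfl)
    · rw [Bool.and_eq_true] at h1
      have h2 := hdv n hn h1.1
      have h3 := Nat.le_of_ble_eq_true h1.2
      have h4 := hS' n (List.mem_append_right _ hn)
      have h5 : p ^ m ∣ p ^ 256 := by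
        have h6 : p ^ m ≤ n ^ 2 := Nat.le_of_dvd (pow_pos h4.1 2) h2
        have h7 : n ^ 2 < 2 ^ 256 := by
          calc n ^ 2 < (2 ^ 128) ^ 2 := Nat.pow_lt_pow_left h4.2.1 (by norm_num)
            _ = 2 ^ 256 := by norm_num
        exact Nat.dvd_of_mod_eq_zero (dvd_pow_big rfl (h6.trans_lt h7) hp.two_le)
      have h6 : p ^ m ≤ Nat.gcd (n ^ 2) (p ^ 256) :=
        Nat.le_of_dvd (Nat.gcd_pos_of_pos_left _ (pow_pos h4.1 2)) (Nat.dvd_gcd h2 h5)
      omega

/-- **SOLV from the check.** -/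
theorem solv_of_chk {D : Set ℕ} (B : ℕ) (P Adm K : List ℕ) (hP : ∀ p ∈ P, p.Prime)
    (hAdm : ∀ d ∈ D, d ∈ Adm) (hK : ∀ n ∈ K, n ∈ D) (hchk : chk B P Adm K = true) : H704.S8.Solv.{u} D := by
  classical
  intro G _ _ hsol hD
  subst hD
  have hperf := perf_of_chk B P Adm K hP hAdm hK hchk
  -- a solvable group with perfect derived subgroup is abelian
  have h1 : commutator G = ⊥ := by
    obtain ⟨n, hn⟩ := hsol.solvable
    have h2 : ∀ k, commutator G ≤ derivedSeries G k := by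
      intro k
      induction k with
      | zero => exact le_top
      | succ k ih =>
        rw [derivedSeries_succ]
        calc commutator G = ⁅commutator G, commutator G⁆ := hperf.symm
          _ ≤ ⁅derivedSeries G k, derivedSeries G k⁆ := Subgroup.commutator_mono ih ih
    exact le_bot_iff.1 ((h2 n).trans hn.le)
  unfold chk at hchk
  rw [Bool.and_eq_true, Bool.and_eq_true, List.any_eq_true] at hchk
  obtain ⟨-, ⟨n, hn, hn1⟩, -⟩ := hchk
  have hn2 : 1 < n := Nat.le_of_ble_eq_true hn1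
  obtain ⟨χ, hχ, hχn⟩ := mem_charDegrees.1 (hK n hn)
  have hcomm : ∀ a b : G, a * b = b * a := by
    intro a b
    have h3 := (Subgroup.commutator_eq_bot_iff_le_centralizer (H₁ := (⊤ : Subgroup G)) (H₂ := ⊤)).1 h1
    exact (Subgroup.mem_centralizer_iff.1 (h3 (Subgroup.mem_top a)) b (Subgroup.mem_top b)).symm
  have h3 := Cfsg.Agent.S0187.result.1 hcomm ⟨χ, hχ⟩
  have h4 : ((n : ℕ) : ℂ) = 1 := by
    rw [← hχn]
    exact h3
  have h5 : n = 1 := by exact_mod_cast h4
  omega

end Cfsg.Agent.H497.S8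
end

-- part: H640/S8/MTwelve
section
set_option linter.all false
open scoped Cfsg.Agent.FastGrp

-- part: H640/S8/Ext
section
/-!
# A degree of exactly one irreducible character of `X` is a degree of `Aut X` (helper640)
-/

set_option autoImplicit false

open Cfsg Cfsg.Agent.Characters.Core Cfsg.Agent.H424.DegTools

namespace Cfsg.Agent.H640.S8

universe u v

theorem mem_aut_of_unique {X : Type v} [Group X] [Finite X] (hc : Subgroup.center X = ⊥)
    (h2 : (MulAut.conj : X →* MulAut X).range.index = 2) {χ : X → ℂ} (hχ : IsIrrCharacter X χ) {d : ℕ}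
    (hd : χ 1 = d) (huni : ∀ η : X → ℂ, IsIrrCharacter X η → η 1 = d → η = χ) : d ∈ charDegrees (MulAut X) := by
  have : Finite (MulAut X) := inferInstance
  have hn : (MulAut.conj : X →* MulAut X).range.Normal := by
    constructor
    rintro _ ⟨x, rfl⟩ g
    exact ⟨g x, by ext y; simp only [MulAut.conj_apply, _root_.MulAut.mul_apply, _root_.MulAut.inv_apply, _root_.map_mul, _root_.MulEquiv.apply_symm_apply, _root_.map_inv]⟩
  have hinj : Function.Injective (MulAut.conj : X →* MulAut X) := by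
    rw [injective_iff_map_eq_one]
    intro a ha
    rw [← Subgroup.mem_bot, ← hc, Subgroup.mem_center_iff]
    intro y
    have h1 : MulAut.conj a y = y := by rw [ha]; rfl
    rw [MulAut.conj_apply, mul_inv_eq_iff_eq_mul] at h1
    exact h1.symm
  let E : X ≃* (MulAut.conj : X →* MulAut X).range := MonoidHom.ofInjective hinj
  have hcyc : IsCyclic (MulAut X ⧸ (MulAut.conj : X →* MulAut X).range) := by
    have : Fact (Nat.Prime 2) := ⟨Nat.prime_two⟩
    exact isCyclic_of_prime_card (p := 2) h2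
  have hirr : IsIrrCharacter (MulAut.conj : X →* MulAut X).range (χ ∘ E.symm) :=
    isIrr_comp E.symm.toMonoidHom E.symm.surjective hχ
  obtain ⟨ψ, hψ, hr⟩ := S0886.result _ hcyc (χ ∘ E.symm) hirr (by
    intro g n
    -- the twist of `χ` by `g` has the same degree
    have h3 : IsIrrCharacter X (χ ∘ g) := isIrr_comp g.toMonoidHom g.surjective hχ
    have h4 : χ ∘ g = χ := huni _ h3 (by rw [Function.comp_apply, map_one, hd])
    obtain ⟨x, rfl⟩ := E.surjective n
    have h5 : E.symm ⟨g * (E x : MulAut X) * g⁻¹, hn.conj_mem _ (E x).2 g⟩ = g x := by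
      apply E.injective
      rw [E.apply_symm_apply]
      apply Subtype.ext
      show g * MulAut.conj x * g⁻¹ = MulAut.conj (g x)
      ext y
      simp only [MulAut.conj_apply, _root_.MulAut.mul_apply, _root_.MulAut.inv_apply, _root_.map_mul, _root_.MulEquiv.apply_symm_apply, _root_.map_inv]
    rw [Function.comp_apply, h5, Function.comp_apply, E.symm_apply_apply]
    exact congrFun h4 x)
  refine mem_charDegrees.2 ⟨ψ, hψ, ?_⟩
  have h6 := hr 1
  rw [show (((1 : (MulAut.conj : X →* MulAut X).range)) : MulAut X) = 1 from rfl] at h6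
  rw [h6, Function.comp_apply, map_one, hd]

end Cfsg.Agent.H640.S8
end

-- part: H640/S8/MTwelve
section
/-!
# S4908, SOLV for the Mathieu group of degree 12 (helper640)

`adm`: a superset of the degrees of `M12` and `Aut M12`; `mem_D`: 45, 54, 120, 144 are degrees of both.
-/

set_option autoImplicit false

open scoped Pointwise
open Cfsg Cfsg.Agent.Characters.Core Cfsg.Agent.H424.DegTools

namespace Cfsg.Agent.H640.S8.MTwelve

open Cfsg.Agent.MTwelve Cfsg.Agent.MTwelve.DegreeEleven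

universe u v

variable {X : Type v} [Group X]

/-- The two descriptions of `M12`. -/
def stabEquiv : ↥(MulAction.stabilizer Cfsg.M24 Cfsg.Spor.squareDodecad) ≃* Cfsg.Spor.M12 where
  toFun g := ⟨((g : Cfsg.M24) : Equiv.Perm GolayPt), (g : Cfsg.M24).2, g.2⟩
  invFun g := ⟨⟨(g : Equiv.Perm GolayPt), g.2.1⟩, g.2.2⟩
  left_inv _ := rfl
  right_inv _ := rfl
  map_mul' _ _ := rfl

theorem finite_m12 (hX : Cfsg.IsM12 X) : Finite X :=
  Nat.finite_of_card_ne_zero (by rw [hX.2]; norm_num)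

theorem index_inn (hX : Cfsg.IsM12 X) : (MulAut.conj : X →* MulAut X).range.index = 2 := by
  have := finite_m12 hX
  obtain ⟨e⟩ := S0421.result hX _ Cfsg.Agent.CoThreeStd.M12.dodecad_mem
  rw [← H55.OutGen.card_out_eq_index, H55.OutGen.card_out_congr (e.trans stabEquiv)]
  exact S2061.result

theorem center_eq (hX : Cfsg.IsM12 X) : Subgroup.center X = ⊥ := by
  have hs := hX.1
  have hn : (Subgroup.center X).Normal := inferInstance
  rcases hn.eq_bot_or_eq_top with h | h
  · exact h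
  · exfalso
    have hcomm : ∀ a b : X, a * b = b * a := fun a b => by
      have : b ∈ Subgroup.center X := by rw [h]; trivial
      exact Subgroup.mem_center_iff.1 this a
    let _ : CommGroup X := { (inferInstance : Group X) with mul_comm := hcomm }
    have := finite_m12 hX
    have h1 : (Nat.card X).Prime := IsSimpleGroup.prime_card
    rw [hX.2] at h1
    norm_num at h1

/-- The numerical data with `charDegree`. -/
theorem exists_data (hX : Cfsg.IsM12 X) [Fintype X] [Fintype (IrrCharacter X)] :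
    ∃ C : Ctx (IrrCharacter X), ∀ ψ : IrrCharacter X, charDegree (ψ : X → ℂ) = C.deg ψ := by
  have hs : IsSimpleGroup X := hX.1
  have hc : Nat.card X = 95040 := hX.2
  obtain ⟨C, t, hdeg, ho, -⟩ := H417.DegMTwelve.exists_ctx hc
    (fun P => Cfsg.Agent.MTwelve.SylowEleven.centralizer_sylow11 hc P)
    (fun P => Cfsg.Agent.MTwelve.SylowEleven.card_normalizer_sylow11 hc P)
  refine ⟨C, fun ψ => ?_⟩
  rw [hdeg]
  exact Cfsg.Agent.MTwelve.ElevenMain.charDegree_eq_deg ψ

/-- multiples of eleven among the possible degrees -/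
def mel : List ℕ := [11, 22, 33, 44, 55, 66, 88, 99, 110, 132, 165, 176, 198, 220, 264, 297]

/-- a superset of the degrees of `M12` and of `Aut M12` -/
def adm : List ℕ :=
  [1, 11, 16, 22, 32, 33, 44, 45, 54, 55, 66, 88, 99, 110, 120, 132, 144, 165, 176, 198, 220, 264, 297, 330, 352, 396,
    440, 528, 594]

theorem mel_of_pool : ∀ n ∈ FiveBlock.pool, 11 ∣ n → n ∈ mel := by decide

theorem adm_of_mel : ∀ n ∈ mel, n ∈ adm ∧ 2 * n ∈ adm := by decide +kernel

theorem not_dvd_of_mel : ∀ n ∈ mel, n ≠ 1 ∧ n ≠ 45 ∧ n ≠ 54 ∧ n ≠ 120 ∧ n ≠ 144 ∧ n ≠ 16 := by decide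

/-- the degrees of the characters -/
theorem degrees (hX : Cfsg.IsM12 X) [Fintype X] [Fintype (IrrCharacter X)] :
    ∃ (o c45 c54 c120 c144 th th' : IrrCharacter X), charDegree (o : X → ℂ) = 1 ∧ charDegree (c45 : X → ℂ) = 45 ∧
      charDegree (c54 : X → ℂ) = 54 ∧ charDegree (c120 : X → ℂ) = 120 ∧ charDegree (c144 : X → ℂ) = 144 ∧
      charDegree (th : X → ℂ) = 16 ∧ charDegree (th' : X → ℂ) = 16 ∧
      ∀ ψ : IrrCharacter X, ψ = o ∨ ψ = c45 ∨ ψ = c54 ∨ ψ = c120 ∨ ψ = c144 ∨ ψ = th ∨ ψ = th' ∨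
        charDegree (ψ : X → ℂ) ∈ mel := by
  obtain ⟨C, hC⟩ := exists_data hX
  refine ⟨C.o, C.c45, C.c54, C.c120, C.c144, C.th, C.th', by rw [hC, C.deg_o], by rw [hC, C.d45], by rw [hC, C.d54],
    by rw [hC, C.d120], by rw [hC, C.d144], by rw [hC, C.dth], by rw [hC, C.dth'], fun ψ => ?_⟩
  rcases C.rest ψ with h | h | h | h | h | h | h | h
  · exact Or.inl h
  · exact Or.inr (Or.inl h)
  · exact Or.inr (Or.inr (Or.inl h))
  · exact Or.inr (Or.inr (Or.inr (Or.inl h)))
  · exact Or.inr (Or.inr (Or.inr (Or.inr (Or.inl h))))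
  · exact Or.inr (Or.inr (Or.inr (Or.inr (Or.inr (Or.inl h)))))
  · exact Or.inr (Or.inr (Or.inr (Or.inr (Or.inr (Or.inr (Or.inl h))))))
  · by_cases ho : ψ = C.o
    · exact Or.inl ho
    · refine Or.inr (Or.inr (Or.inr (Or.inr (Or.inr (Or.inr (Or.inr ?_))))))
      rw [hC]
      exact mel_of_pool _ (C.hpool ψ ho) h

/-- a character is determined by its degree if this is 45, 54, 120 or 144 -/
theorem unique (hX : Cfsg.IsM12 X) [Fintype X] [Fintype (IrrCharacter X)] {d : ℕ}
    (hd : d = 45 ∨ d = 54 ∨ d = 120 ∨ d = 144) :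
    ∃ χ : X → ℂ, IsIrrCharacter X χ ∧ χ 1 = d ∧ ∀ η : X → ℂ, IsIrrCharacter X η → η 1 = d → η = χ := by
  obtain ⟨o, c45, c54, c120, c144, th, th', ho, h45, h54, h120, h144, h16, h16', hrest⟩ := degrees hX
  have key : ∀ ψ : IrrCharacter X, charDegree (ψ : X → ℂ) = d →
      (d = 45 ∧ ψ = c45) ∨ (d = 54 ∧ ψ = c54) ∨ (d = 120 ∧ ψ = c120) ∨ (d = 144 ∧ ψ = c144) := by
    intro ψ hψ
    rcases hrest ψ with rfl | rfl | rfl | rfl | rfl | rfl | rfl | h
    · (clear * - hd hψ ho; omega)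
    · exact Or.inl ⟨by omega, rfl⟩
    · exact Or.inr (Or.inl ⟨by omega, rfl⟩)
    · exact Or.inr (Or.inr (Or.inl ⟨by omega, rfl⟩))
    · exact Or.inr (Or.inr (Or.inr ⟨by omega, rfl⟩))
    · (clear * - hd hψ h16; omega)
    · (clear * - hd hψ h16'; omega)
    · have := not_dvd_of_mel _ h
      (clear * - hd hψ this; omega)
  have hdeg : ∀ (ψ : IrrCharacter X), (ψ : X → ℂ) 1 = (charDegree (ψ : X → ℂ) : ℂ) := fun ψ =>
    Blocks.Basic.irr_one_eq_charDegree ψ.2
  have hdeg' : ∀ (ψ : IrrCharacter X) (e : ℕ), (ψ : X → ℂ) 1 = e → charDegree (ψ : X → ℂ) = e := fun ψ e h =>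
    Blocks.Basic.charDegree_of_eq h
  rcases hd with rfl | rfl | rfl | rfl
  · refine ⟨c45, c45.2, by rw [hdeg, h45], fun η hη h1 => ?_⟩
    rcases key ⟨η, hη⟩ (hdeg' ⟨η, hη⟩ _ h1) with ⟨h, h'⟩ | ⟨h, h'⟩ | ⟨h, h'⟩ | ⟨h, h'⟩ <;>
      first | omega | exact congrArg Subtype.val h'
  · refine ⟨c54, c54.2, by rw [hdeg, h54], fun η hη h1 => ?_⟩
    rcases key ⟨η, hη⟩ (hdeg' ⟨η, hη⟩ _ h1) with ⟨h, h'⟩ | ⟨h, h'⟩ | ⟨h, h'⟩ | ⟨h, h'⟩ <;>
      first | omega | exact congrArg Subtype.val h'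
  · refine ⟨c120, c120.2, by rw [hdeg, h120], fun η hη h1 => ?_⟩
    rcases key ⟨η, hη⟩ (hdeg' ⟨η, hη⟩ _ h1) with ⟨h, h'⟩ | ⟨h, h'⟩ | ⟨h, h'⟩ | ⟨h, h'⟩ <;>
      first | omega | exact congrArg Subtype.val h'
  · refine ⟨c144, c144.2, by rw [hdeg, h144], fun η hη h1 => ?_⟩
    rcases key ⟨η, hη⟩ (hdeg' ⟨η, hη⟩ _ h1) with ⟨h, h'⟩ | ⟨h, h'⟩ | ⟨h, h'⟩ | ⟨h, h'⟩ <;>
      first | omega | exact congrArg Subtype.val h'

/-- 45, 54, 120, 144 are degrees -/
theorem mem_D (hX : Cfsg.IsM12 X) {D : Set ℕ} (hD : H704.S8.Deg 2 X D) :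
    ∀ d ∈ ([45, 54, 120, 144] : List ℕ), d ∈ D := by
  intro d hd
  have := finite_m12 hX
  have := Fintype.ofFinite X
  have := finite_irr (G := X)
  have := Fintype.ofFinite (IrrCharacter X)
  have hd' : d = 45 ∨ d = 54 ∨ d = 120 ∨ d = 144 := by simpa using hd
  obtain ⟨χ, hχ, h1, huni⟩ := unique hX hd'
  rcases hD with rfl | ⟨-, rfl⟩
  · exact mem_charDegrees.2 ⟨χ, hχ, h1⟩
  · exact mem_aut_of_unique (center_eq hX) (index_inn hX) hχ h1 huni

/-- the degrees of `M12` are in the list; so are twice the degrees of two different characters -/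
theorem deg_sub (hX : Cfsg.IsM12 X) {D : Set ℕ} (hD : H704.S8.Deg 2 X D) : ∀ d ∈ D, d ∈ adm := by
  have := finite_m12 hX
  have := Fintype.ofFinite X
  have := finite_irr (G := X)
  have := Fintype.ofFinite (IrrCharacter X)
  obtain ⟨o, c45, c54, c120, c144, th, th', ho, h45, h54, h120, h144, h16, h16', hrest⟩ := degrees hX
  have hdX : ∀ d ∈ charDegrees X, d ∈ adm := by
    rintro d ⟨ψ, rfl⟩
    rcases hrest ψ with rfl | rfl | rfl | rfl | rfl | rfl | rfl | h
    · rw [ho]; decide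
    · rw [h45]; decide
    · rw [h54]; decide
    · rw [h120]; decide
    · rw [h144]; decide
    · rw [h16]; decide
    · rw [h16']; decide
    · exact (adm_of_mel _ h).1
  rcases hD with rfl | ⟨-, rfl⟩
  · exact hdX
  · intro d hd
    rcases H109.S8.deg_aut (center_eq hX) (index_inn hX) hd with h | ⟨χ, χ', f, hne, h1, h2, rfl⟩
    · exact hdX d h
    · have e1 : charDegree (χ : X → ℂ) = f := Blocks.Basic.charDegree_of_eq h1
      have e2 : charDegree (χ' : X → ℂ) = f := Blocks.Basic.charDegree_of_eq h2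
      rcases hrest χ with rfl | rfl | rfl | rfl | rfl | rfl | rfl | h
      all_goals try (rw [e1] at h; exact (adm_of_mel _ h).2)
      all_goals
        rcases hrest χ' with rfl | rfl | rfl | rfl | rfl | rfl | rfl | h
      all_goals try (rw [e2] at h; exact (adm_of_mel _ h).2)
      all_goals first
        | exact absurd rfl hne
        | (exfalso; (clear * - e1 e2 ho h45 h54 h120 h144 h16 h16'; omega))
        | (have : f = 16 := by omega
           subst this; decide)

/-- **SOLV for `M12`.** -/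
theorem solv (hX : Cfsg.IsM12 X) {D : Set ℕ} (hD : H704.S8.Deg 2 X D) : H704.S8.Solv.{u} D := by
  refine H497.S8.solv_of_chk 594 [2, 3, 5, 11] adm [45, 54, 120, 144] ?_ (deg_sub hX hD) (mem_D hX hD)
    (by decide +kernel)
  intro p hp
  simp only [List.mem_cons, List.not_mem_nil, or_false] at hp
  rcases hp with rfl | rfl | rfl | rfl <;> norm_num

end Cfsg.Agent.H640.S8.MTwelve
end
end
end
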